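import Groth.Agent.ObsDim29.Completion
import Groth.Agent.QuotSm29.Lifts
import Groth.Agent.CAlgH3.RegularLocal

/-!
# Obstruction classes, dimension and smoothness for a pro-represented functor
-/

set_option autoImplicit false
set_option backward.isDefEq.respectTransparency.types false
set_option backward.isDefEq.respectTransparency false
set_option linter.style.haveILetI false
universe u v w

open IsLocalRing CategoryTheory ArtFun Groth.Agent.ArtFunLib

noncomputable section

namespace Groth.Agent.ObsDim29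

variable {k : Type u} [Field k] {F : Art k k ⥤ Type v} (P : ProRep F)

theorem hasLinObs_of_family {W : Type w} [AddCommGroup W] [Module k W]
    (h : ∀ (C₀ : Art k k) (J : Ideal C₀) (hJm : J ≤ maximalIdeal C₀), (∀ a ∈ maximalIdeal C₀, ∀ z ∈ J, a * z = 0) →
      ∀ D : F.obj (Art.quot C₀ J hJm), ∃ o : (↥J →ₗ[k] k) →ₗ[k] W, ∀ ℓ, o ℓ = 0 →
        ∀ (L : Ideal C₀) (hL : L ≤ maximalIdeal C₀) (hLJ : L ≤ J), (∀ z (hz : z ∈ J), z ∈ L ↔ ℓ ⟨z, hz⟩ = 0) →
          ∀ (g' : Art.quot C₀ L hL ⟶ Art.quot C₀ J hJm),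
            (∀ z, g' (Art.quotMk C₀ L hL z) = Art.quotMk C₀ J hJm z) →
            ∃ D' : F.obj (Art.quot C₀ L hL), F.map g' D' = D) :
    HasLinObs P.ring.carrier P.ring.res W := by
  intro C₀ J hJm hJ0 u
  obtain ⟨o, ho⟩ := h C₀ J hJm hJ0 (P.family.app _ u)
  refine ⟨o, fun ℓ hℓ L hL hLJ hmem => ?_⟩
  let g' := Art.quotFactor hL (Art.quotMk C₀ J hJm) (fun z hz => Ideal.Quotient.eq_zero_iff_mem.2 (hLJ hz))
  obtain ⟨D', hD'⟩ := ho ℓ hℓ L hL hLJ hmem g' fun z => rfl
  obtain ⟨v, rfl⟩ := (P.universal _).2 D'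
  refine ⟨v, fun q hq => ?_⟩
  obtain rfl : q = g' := Art.hom_ext (AlgHom.ext fun z => by
    obtain ⟨z, rfl⟩ := Art.quotMk_surjective C₀ L hL z
    exact hq z)
  exact (P.universal _).1 ((P.family.natural _ _).trans hD')

/-- A ring of full dimension has a smooth functor. -/
theorem isSmoothFunctor_of_dim
    (h : ringKrullDim P.ring.carrier = ((maximalIdeal P.ring.carrier).spanFinrank : WithBot ℕ∞)) :
    IsSmoothFunctor F := by
  classical
  let R := P.ring
  obtain ⟨s, hscard, hs⟩ := (IsNoetherian.noetherian (maximalIdeal R.carrier)).exists_span_finset_card_eq_spanFinrank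
  let kC : CRing k k := artCRing (Art.base k k)
  let a : Fin s.card → R.carrier := fun j => (s.equivFin.symm j).1
  have ha : Set.range a = (s : Set R.carrier) := by
    ext z
    exact ⟨by rintro ⟨j, rfl⟩; exact (s.equivFin.symm j).2, fun hz => ⟨s.equivFin ⟨z, hz⟩, by simp [a]⟩⟩
  have hspan : Ideal.span (Set.range a) = maximalIdeal R.carrier := by rw [ha]; exact hs
  have hres : ∀ i, R.res (a i) = 0 := fun i =>
    (CRing.mem_maximalIdeal_iff R _).1 (hspan ▸ Ideal.subset_span ⟨i, rfl⟩)
  obtain ⟨g, hg, hgC, hgX⟩ := exists_ps_eval (R := kC) (T := R) (Algebra.ofId k R.carrier)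
    (AlgHom.ext fun c => R.res.commutes c) a hres
  haveI := R.isAdicComplete
  have hfX : (fun i => g.toRingHom (MvPowerSeries.X (R := kC.carrier) i)) = a := funext hgX
  have hsurj : Function.Surjective g := by
    refine CAlgH.surjective_mvPowerSeries_hom g.toRingHom (maximalIdeal R.carrier)
      (fun i => (congrFun hfX i).symm ▸ hspan ▸ Ideal.subset_span ⟨i, rfl⟩) fun y => ?_
    obtain ⟨r, rfl⟩ := Ideal.Quotient.mk_surjective y
    refine ⟨R.res r, ?_⟩
    refine (Ideal.Quotient.mk_eq_mk_iff_sub_mem _ r).2 ?_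
    erw [hfX]
    erw [hspan]
    refine (CRing.mem_maximalIdeal_iff R _).2 ?_
    rw [map_sub, sub_eq_zero]
    exact (congrArg R.res (hgC _)).trans (R.res.commutes _)
  have hinj : Function.Injective g := by
    haveI : IsRegularLocalRing (psRing kC s.card).carrier := (CAlgH.isRegularLocalRing_mvPowerSeries k s.card).1
    haveI : IsDomain (psRing kC s.card).carrier := CAlgH3.isDomain_of_isRegularLocalRing _
    refine (injective_iff_map_eq_zero g).2 fun r hr => ?_
    by_contra hr0
    have h1 := ringKrullDim_quotient_succ_le_of_nonZeroDivisor (mem_nonZeroDivisors_of_ne_zero hr0)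
    have h2 : ringKrullDim R.carrier ≤ ringKrullDim ((psRing kC s.card).carrier ⧸ Ideal.span {r}) :=
      ringKrullDim_le_of_surjective (Ideal.Quotient.lift _ g.toRingHom
        (fun x hx => by
          obtain ⟨y, rfl⟩ := Ideal.mem_span_singleton'.1 hx
          rw [map_mul]
          exact mul_eq_zero_of_right _ hr))
        (Ideal.Quotient.lift_surjective_of_surjective _ _ hsurj)
    have h3 : ringKrullDim (psRing kC s.card).carrier ≤ (s.card : WithBot ℕ∞) :=
      (CAlgH.isRegularLocalRing_mvPowerSeries k s.card).2.trans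
        (by rw [ringKrullDim_eq_zero_of_field k, zero_add])
    rw [h, ← hscard] at h2
    have h4 : (s.card : WithBot ℕ∞) + 1 ≤ (s.card : WithBot ℕ∞) :=
      ((add_le_add_left h2 1).trans h1).trans h3
    have h5 : ((s.card + 1 : ℕ) : WithBot ℕ∞) ≤ ((s.card : ℕ) : WithBot ℕ∞) := by push_cast; exact h4
    exact absurd (by exact_mod_cast h5 : s.card + 1 ≤ s.card) (by omega)
  let e : (psRing kC s.card).carrier ≃ₐ[k] R.carrier := AlgEquiv.ofBijective g ⟨hinj, hsurj⟩
  intro B A q hq y
  obtain ⟨u, rfl⟩ := (P.universal A).2 y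
  obtain ⟨ψ, hψ⟩ := exists_lift_ps kC Function.bijective_id s.card q hq
    ⟨u.1.comp g, by rw [← AlgHom.comp_assoc, u.2, hg]⟩
  have he : ∀ r, g (e.symm r) = r := e.apply_symm_apply
  let v : HomSet R.carrier R.res B := ⟨ψ.1.comp e.symm.toAlgHom, AlgHom.ext fun r =>
    (AlgHom.congr_fun ψ.2 (e.symm r)).trans ((AlgHom.congr_fun hg _).symm.trans (congrArg R.res (he r)))⟩
  refine ⟨P.family.app B v, ?_⟩
  rw [← P.family.natural]
  refine congrArg _ (Subtype.ext (AlgHom.ext fun r => ?_))
  exact (AlgHom.congr_fun (congrArg Subtype.val hψ) (e.symm r)).trans (congrArg u.1 (he r))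

/-- A smooth functor has a ring of full dimension. -/
theorem dim_of_isSmoothFunctor [IsAlgClosed k] (h : IsSmoothFunctor F) :
    ringKrullDim P.ring.carrier = ((maximalIdeal P.ring.carrier).spanFinrank : WithBot ℕ∞) := by
  let R := P.ring
  have hker : RingHom.ker (R.res : R.carrier →+* k) = maximalIdeal R.carrier :=
    IsLocalRing.eq_maximalIdeal (RingHom.ker_isMaximal_of_surjective (R.res : R.carrier →+* k) R.res_surjective)
  have hsub : ∀ r, r - algebraMap k R.carrier (R.res r) ∈ maximalIdeal R.carrier := fun r => by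
    rw [← hker, RingHom.mem_ker, map_sub]
    exact sub_eq_zero.2 (R.res.commutes _).symm
  haveI : IsRegularLocalRing R.carrier := Exal29.isRegularLocalRing_of_artinian_lifts (k := k)
    (fun z => by
      obtain ⟨r, rfl⟩ := residue_surjective z
      refine ⟨R.res r, ?_⟩
      show residue R.carrier (algebraMap k R.carrier _) = _
      rw [eq_comm, ← sub_eq_zero, ← map_sub, residue_eq_zero_iff]
      exact hsub r)
    fun B' _ _ _ _ J hJ f => by
      obtain ⟨hart, r, hr⟩ := QuotSm29.exists_art (k := k) B'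
      let B : Art k k := Art.of B' r hr
      have hJm : J ≤ maximalIdeal B' := by
        refine IsLocalRing.le_maximalIdeal fun e => ?_
        rw [e, sq, Ideal.top_mul] at hJ
        exact top_ne_bot hJ
      let A : Art k k := Art.quot B J hJm
      let f' : R.carrier →ₐ[k] A := f
      let φ : R.carrier →ₐ[k] k := A.res.comp f'
      have hφ : RingHom.ker (φ : R.carrier →+* k) = maximalIdeal R.carrier :=
        IsLocalRing.eq_maximalIdeal (RingHom.ker_isMaximal_of_surjective (φ : R.carrier →+* k)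
          fun c => ⟨algebraMap k R.carrier c, φ.commutes c⟩)
      let u : HomSet R.carrier R.res A := ⟨f', AlgHom.ext fun a => by
        have h0 : φ (a - algebraMap k R.carrier (R.res a)) = 0 := hφ.ge (hsub a)
        rw [map_sub, AlgHom.commutes, sub_eq_zero] at h0
        exact h0⟩
      obtain ⟨D', hD'⟩ := h (Art.quotMk B J hJm) (Art.quotMk_surjective _ _ _) (P.family.app A u)
      obtain ⟨v, rfl⟩ := (P.universal B).2 D'
      exact ⟨v.1, congrArg Subtype.val ((P.universal A).1 ((P.family.natural _ v).trans hD'))⟩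
  exact (IsRegularLocalRing.spanFinrank_maximalIdeal (R := R.carrier)).symm

end Groth.Agent.ObsDim29

end
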